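import Groth.Agent.FlatCartier.Alg
import Groth.Agent.BlowUpLib.Cartier
import Mathlib

/-!
# Flatness of closed subschemes over a base
-/

set_option autoImplicit false

universe u

open CategoryTheory AlgebraicGeometry TensorProduct TopologicalSpace

namespace Groth.Agent.FlatCartier

variable {R : Type u} [CommRing R] {N M P : Type u} [AddCommGroup N] [Module R N] [AddCommGroup M]
    [Module R M] [AddCommGroup P] [Module R P]

theorem flat_mid (i : N →ₗ[R] M) (q : M →ₗ[R] P) (hi : Function.Injective i) (hex : Function.Exact i q)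
    (hq : Function.Surjective q) [Module.Flat R N] [Module.Flat R P] : Module.Flat R M := by
  rw [Module.Flat.iff_lTensor_preserves_injective_linearMap]
  intro A B _ _ _ _ u hu
  rw [injective_iff_map_eq_zero]
  intro x hx
  have h1 : q.rTensor A x = 0 := by
    apply Module.Flat.lTensor_preserves_injective_linearMap (M := P) u hu
    rw [map_zero, ← LinearMap.comp_apply, LinearMap.lTensor_comp_rTensor, ← LinearMap.rTensor_comp_lTensor,
      LinearMap.comp_apply, hx, map_zero]
  obtain ⟨w, rfl⟩ := (rTensor_exact A hex hq _).1 h1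
  have h2 : u.lTensor N w = 0 := by
    apply rTensor_injective_of_flat_cokernel i q hi hex hq B
    rw [map_zero, ← LinearMap.comp_apply, LinearMap.rTensor_comp_lTensor, ← LinearMap.lTensor_comp_rTensor,
      LinearMap.comp_apply, hx]
  rw [show w = 0 from Module.Flat.lTensor_preserves_injective_linearMap (M := N) u hu
    (h2.trans (map_zero _).symm), map_zero]

theorem flat_left (i : N →ₗ[R] M) (q : M →ₗ[R] P) (hi : Function.Injective i) (hex : Function.Exact i q)
    (hq : Function.Surjective q) [Module.Flat R M] [Module.Flat R P] : Module.Flat R N := by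
  rw [Module.Flat.iff_lTensor_preserves_injective_linearMap]
  intro A B _ _ _ _ u hu
  rw [injective_iff_map_eq_zero]
  intro x hx
  apply rTensor_injective_of_flat_cokernel i q hi hex hq A
  apply Module.Flat.lTensor_preserves_injective_linearMap (M := M) u hu
  rw [map_zero, map_zero, ← LinearMap.comp_apply, LinearMap.lTensor_comp_rTensor,
    ← LinearMap.rTensor_comp_lTensor, LinearMap.comp_apply, hx, map_zero]

/-- the standard exact sequence `0 → A/(b) → A/(ab) → A/(a) → 0` -/
theorem exists_mul_sequence {A : Type u} [CommRing A] [Algebra R A] (a b : A) (ha : a ∈ nonZeroDivisors A) :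
    ∃ (i : (A ⧸ Ideal.span {b}) →ₗ[R] A ⧸ Ideal.span {a * b})
      (q : (A ⧸ Ideal.span {a * b}) →ₗ[R] A ⧸ Ideal.span {a}),
      Function.Injective i ∧ Function.Exact i q ∧ Function.Surjective q := by
  have hle : Ideal.span {a * b} ≤ Ideal.span {a} := Ideal.span_singleton_le_span_singleton.2 (dvd_mul_right a b)
  let q : (A ⧸ Ideal.span {a * b}) →ₗ[R] A ⧸ Ideal.span {a} := (Ideal.Quotient.factorₐ R hle).toLinearMap
  let i0 : (A ⧸ Ideal.span {b}) →ₗ[A] A ⧸ Ideal.span {a * b} :=
    Submodule.mapQ _ _ (LinearMap.mulLeft A a) (fun x hx => by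
      obtain ⟨c, rfl⟩ := Ideal.mem_span_singleton.1 hx
      exact Ideal.mem_span_singleton.2 ⟨c, (mul_assoc a b c).symm⟩)
  refine ⟨i0.restrictScalars R, q, ?_, ?_, Ideal.Quotient.factor_surjective hle⟩
  · show Function.Injective i0
    rw [injective_iff_map_eq_zero]
    intro x hx
    obtain ⟨x, rfl⟩ := Ideal.Quotient.mk_surjective x
    obtain ⟨c, hc⟩ := Ideal.mem_span_singleton.1 (Ideal.Quotient.eq_zero_iff_mem.1
      (hx : Ideal.Quotient.mk (Ideal.span {a * b}) (a * x) = 0))
    refine Ideal.Quotient.eq_zero_iff_mem.2 (Ideal.mem_span_singleton.2 ⟨c, ?_⟩)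
    exact (mul_cancel_left_mem_nonZeroDivisors ha).1 (hc.trans (mul_assoc a b c))
  · intro y
    obtain ⟨y, rfl⟩ := Ideal.Quotient.mk_surjective y
    show Ideal.Quotient.mk (Ideal.span {a}) y = 0 ↔ _
    rw [Ideal.Quotient.eq_zero_iff_mem, Ideal.mem_span_singleton]
    constructor
    · rintro ⟨c, rfl⟩; exact ⟨Ideal.Quotient.mk _ c, rfl⟩
    · rintro ⟨z, hz⟩
      obtain ⟨z, rfl⟩ := Ideal.Quotient.mk_surjective z
      obtain ⟨c, hc⟩ := Ideal.mem_span_singleton.1 (Ideal.Quotient.eq.1
        (hz : Ideal.Quotient.mk (Ideal.span {a * b}) (a * z) = Ideal.Quotient.mk _ y))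
      exact ⟨z - b * c, by rw [LinearMap.mulLeft_apply] at hc; linear_combination -hc⟩

variable {X S : Scheme.{u}} {f : X ⟶ S}

/-- Flatness of a closed subscheme gives flatness of the affine quotients. -/
theorem flat_quotient {I : X.IdealSheafData} (h : Flat (I.subschemeι ≫ f)) {V : S.Opens} (hV : IsAffineOpen V)
    (U : X.affineOpens) (e : U.1 ≤ f ⁻¹ᵁ V) :
    ((Ideal.Quotient.mk (I.ideal U)).comp (f.appLE V U.1 e).hom).Flat := by
  have e1 : I.subschemeι ⁻¹ᵁ U.1 ≤ (I.subschemeι ≫ f) ⁻¹ᵁ V := fun z hz => e hz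
  have h1 := @Scheme.Hom.flat_appLE _ _ (I.subschemeι ≫ f) h V hV _ (U.2.preimage I.subschemeι) e1
  rw [← Scheme.Hom.appLE_comp_appLE I.subschemeι f V U.1 (I.subschemeι ⁻¹ᵁ U.1) e le_rfl,
    ← Scheme.Hom.app_eq_appLE, Scheme.IdealSheafData.subschemeι_app, ← Category.assoc,
    CommRingCat.hom_comp, RingHom.Flat.respectsIso.cancel_right_isIso] at h1
  exact h1

/-- A closed subscheme is flat if its affine quotients are flat around every point. -/
theorem flat_subscheme {I : X.IdealSheafData}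
    (h : ∀ x ∈ I.support, ∃ (V : S.affineOpens) (U : X.affineOpens) (_ : x ∈ U.1) (e : U.1 ≤ f ⁻¹ᵁ V.1),
      ((Ideal.Quotient.mk (I.ideal U)).comp (f.appLE V.1 U.1 e).hom).Flat) :
    Flat (I.subschemeι ≫ f) := by
  have hQ : RingHom.StableUnderCompositionWithLocalizationAwaySource RingHom.Flat :=
    (RingHom.Flat.stableUnderComposition.stableUnderCompositionWithLocalizationAway
      RingHom.Flat.holdsForLocalizationAway).left
  rw [HasRingHomProperty.iff_exists_appLE (P := @Flat) hQ]
  intro z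
  obtain ⟨V, U, hzU, e, hf⟩ := h (I.subschemeι.base z) (I.range_subschemeι.subset ⟨z, rfl⟩)
  refine ⟨V, ⟨_, U.2.preimage I.subschemeι⟩, hzU, fun w hw => e hw, ?_⟩
  rw [← Scheme.Hom.appLE_comp_appLE I.subschemeι f V.1 U.1 (I.subschemeι ⁻¹ᵁ U.1) e le_rfl,
    ← Scheme.Hom.app_eq_appLE, Scheme.IdealSheafData.subschemeι_app, ← Category.assoc,
    CommRingCat.hom_comp, RingHom.Flat.respectsIso.cancel_right_isIso]
  exact hf

/-- Around any point, two effective Cartier ideals have generators on a common affine open. -/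
theorem exists_common {I J : X.IdealSheafData} (hI : BlowUp.IsEffCartierIdeal I)
    (hJ : BlowUp.IsEffCartierIdeal J) (f : X ⟶ S) (x : X) :
    ∃ (V : S.affineOpens) (U : X.affineOpens) (_ : x ∈ U.1) (_ : U.1 ≤ f ⁻¹ᵁ V.1) (a b : Γ(X, U.1)),
      a ∈ nonZeroDivisors Γ(X, U.1) ∧ b ∈ nonZeroDivisors Γ(X, U.1) ∧
        I.ideal U = Ideal.span {a} ∧ J.ideal U = Ideal.span {b} := by
  obtain ⟨V, hV, hxV, -⟩ :=
    exists_isAffineOpen_mem_and_subset (X := S) (U := ⊤) (trivial : f.base x ∈ (⊤ : S.Opens))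
  obtain ⟨U₁, hxU₁, hU₁, a, ha, he⟩ := BlowUpLib.exists_small_generator hI (O := f ⁻¹ᵁ V) hxV
  obtain ⟨U, hxU, hU, b, hb, he'⟩ := BlowUpLib.exists_small_generator hJ (O := U₁.1) hxU₁
  obtain ⟨a', ha', he''⟩ := BlowUpLib.exists_generator_of_le I (show U ≤ U₁ from hU) ha he
  exact ⟨⟨V, hV⟩, U, hxU, hU.trans hU₁, a', b, ha', hb, he'', he'⟩

end Groth.Agent.FlatCartier
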