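import Mathlib

/-!
# Flatness from flatness on a principal divisor and outside it
-/

set_option autoImplicit false

universe u

open TensorProduct

namespace Groth.Agent.FlatCartier

variable {R : Type u} [CommRing R]

/-- A short exact sequence with flat cokernel stays exact on the left after tensoring. -/
theorem rTensor_injective_of_flat_cokernel {N M P : Type u} [AddCommGroup N] [Module R N] [AddCommGroup M]
    [Module R M] [AddCommGroup P] [Module R P] [Module.Flat R P] (i : N →ₗ[R] M) (q : M →ₗ[R] P)
    (hi : Function.Injective i) (hex : Function.Exact i q) (hq : Function.Surjective q)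
    (Q : Type u) [AddCommGroup Q] [Module R Q] : Function.Injective (i.rTensor Q) := by
  let π : (Q →₀ R) →ₗ[R] Q := Finsupp.linearCombination R id
  have hπ : Function.Surjective π := Finsupp.linearCombination_id_surjective R Q
  let j := (LinearMap.ker π).subtype
  have hjπ : Function.Exact j π := LinearMap.exact_subtype_ker_map π
  rw [injective_iff_map_eq_zero]
  intro x hx
  obtain ⟨y, rfl⟩ := LinearMap.lTensor_surjective N hπ x
  have h1 : π.lTensor M (i.rTensor (Q →₀ R) y) = 0 := by
    rw [← hx]
    simp only [← LinearMap.comp_apply, LinearMap.rTensor_comp_lTensor, LinearMap.lTensor_comp_rTensor]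
  obtain ⟨z, hz⟩ := (lTensor_exact (R := R) (M := ↥(LinearMap.ker π)) (f := j) M hjπ hπ _).1 h1
  have h2 : q.rTensor (LinearMap.ker π) z = 0 := by
    apply Module.Flat.lTensor_preserves_injective_linearMap (M := P) j Subtype.val_injective
    rw [map_zero]
    have h3 : q.rTensor (Q →₀ R) (j.lTensor M z) = 0 := by
      rw [hz, ← LinearMap.comp_apply, ← LinearMap.rTensor_comp,
        show q.comp i = 0 from LinearMap.ext fun n => hex.apply_apply_eq_zero n, LinearMap.rTensor_zero]
      rfl
    rw [← h3]
    simp only [← LinearMap.comp_apply, LinearMap.rTensor_comp_lTensor, LinearMap.lTensor_comp_rTensor]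
  obtain ⟨w, hw⟩ := (rTensor_exact (LinearMap.ker π) hex hq _).1 h2
  have h4 : y = j.lTensor N w := by
    apply Module.Flat.rTensor_preserves_injective_linearMap (M := Q →₀ R) i hi
    rw [← hz, ← hw]
    simp only [← LinearMap.comp_apply, LinearMap.rTensor_comp_lTensor, LinearMap.lTensor_comp_rTensor]
  rw [h4, ← LinearMap.comp_apply, ← LinearMap.lTensor_comp,
    show π.comp j = 0 from LinearMap.ext fun n => hjπ.apply_apply_eq_zero n, LinearMap.lTensor_zero]
  rfl

theorem flat_of_flat_quotient_of_flat_away {A : Type u} [CommRing A] [Algebra R A] (a : A)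
    (ha : a ∈ nonZeroDivisors A) [Module.Flat R (A ⧸ Ideal.span {a})]
    (L : Type u) [CommRing L] [Algebra A L] [Algebra R L] [IsScalarTower R A L] [IsLocalization.Away a L]
    [Module.Flat R L] : Module.Flat R A := by
  rw [Module.Flat.iff_lTensor_preserves_injective_linearMap]
  intro N Q _ _ _ _ u hu
  let i : A →ₗ[R] A := (LinearMap.mulLeft A a).restrictScalars R
  let q : A →ₗ[R] A ⧸ Ideal.span {a} := (Ideal.Quotient.mkₐ R (Ideal.span {a})).toLinearMap
  have hex : Function.Exact i q := fun y => by
    show Ideal.Quotient.mk _ y = 0 ↔ _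
    rw [Ideal.Quotient.eq_zero_iff_mem, Ideal.mem_span_singleton']
    exact ⟨fun ⟨c, hc⟩ => ⟨c, (mul_comm a c).trans hc⟩, fun ⟨c, hc⟩ => ⟨c, (mul_comm c a).trans hc⟩⟩
  have hi : Function.Injective i := fun x y h => (mul_cancel_left_mem_nonZeroDivisors ha).1 h
  have hinj := rTensor_injective_of_flat_cokernel i q hi hex Ideal.Quotient.mk_surjective N
  rw [injective_iff_map_eq_zero]
  intro x hx
  have hz : (IsScalarTower.toAlgHom R A L).toLinearMap.rTensor N x = 0 := by
    apply Module.Flat.lTensor_preserves_injective_linearMap (M := L) u hu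
    rw [map_zero, ← LinearMap.comp_apply, LinearMap.lTensor_comp_rTensor, ← LinearMap.rTensor_comp_lTensor,
      LinearMap.comp_apply, hx, map_zero]
  have hloc : IsLocalizedModule (Submonoid.powers a)
      (TensorProduct.AlgebraTensorModule.rTensor R N (IsScalarTower.toAlgHom A A L).toLinearMap) := by
    have : IsLocalizedModule (Submonoid.powers a) (IsScalarTower.toAlgHom A A L).toLinearMap := by
      have := (isLocalizedModule_iff_isLocalization' (Submonoid.powers a) L).2 inferInstance
      exact this
    infer_instance
  obtain ⟨⟨_, n, rfl⟩, hn⟩ := (IsLocalizedModule.eq_zero_iff (Submonoid.powers a)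
    (TensorProduct.AlgebraTensorModule.rTensor R N (IsScalarTower.toAlgHom A A L).toLinearMap) (m := x)).1 hz
  have hpow : ∀ (n : ℕ) (x : A ⊗[R] N), a ^ n • x = 0 → x = 0 := by
    intro n
    induction n with
    | zero => intro x hx; simpa using hx
    | succ n ih =>
      intro x hx
      refine ih x (hinj (?_ : i.rTensor N (a ^ n • x) = i.rTensor N 0))
      rw [map_zero, ← hx, pow_succ', mul_smul]
      induction a ^ n • x using TensorProduct.induction_on with
      | zero => simp
      | tmul c v => rw [LinearMap.rTensor_tmul, TensorProduct.smul_tmul']; rfl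
      | add y z hy hz => rw [map_add, smul_add, hy, hz]
  exact hpow n x hn

end Groth.Agent.FlatCartier
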