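import Mathlib

/-!
# A local criterion of flatness along a regular element
-/

set_option autoImplicit false

universe u

open TensorProduct

namespace Groth.Agent.FlatCartier

variable {R A : Type u} [CommRing R] [CommRing A] [Algebra R A]

/-- Over a noetherian local ring, flatness modulo a regular non-unit gives flatness. -/
theorem flat_of_flat_quotient_local [IsNoetherianRing A] [IsLocalRing A] (g : A)
    (hg : g ∈ nonZeroDivisors A) (hm : ¬ IsUnit g) [Module.Flat R (A ⧸ Ideal.span {g})] :
    Module.Flat R A := by
  rw [Module.Flat.iff_lTensor_injective]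
  intro I hI
  have : Module.Finite R I := Module.Finite.iff_fg.2 hI
  let v : A ⊗[R] I →ₗ[A] A ⊗[R] R := AlgebraTensorModule.lTensor A A I.subtype
  have hK : (LinearMap.ker v).FG := IsNoetherian.noetherian _
  have hle : LinearMap.ker v ≤ Ideal.span {g} • LinearMap.ker v := by
    intro x hx
    have hx' : I.subtype.lTensor A x = 0 := hx
    let i : A →ₗ[R] A := (LinearMap.mulLeft A g).restrictScalars R
    let q : A →ₗ[R] A ⧸ Ideal.span {g} := (Ideal.Quotient.mkₐ R (Ideal.span {g})).toLinearMap
    have hex : Function.Exact i q := fun y => by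
      show Ideal.Quotient.mk _ y = 0 ↔ _
      rw [Ideal.Quotient.eq_zero_iff_mem, Ideal.mem_span_singleton']
      exact ⟨fun ⟨c, hc⟩ => ⟨c, (mul_comm g c).trans hc⟩, fun ⟨c, hc⟩ => ⟨c, (mul_comm c g).trans hc⟩⟩
    have h1 : q.rTensor I x = 0 := by
      apply Module.Flat.lTensor_preserves_injective_linearMap (M := A ⧸ Ideal.span {g}) I.subtype
        Subtype.val_injective
      rw [map_zero, ← LinearMap.comp_apply, LinearMap.lTensor_comp_rTensor,
        ← LinearMap.rTensor_comp_lTensor, LinearMap.comp_apply, hx', map_zero]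
    obtain ⟨y, hy⟩ := (rTensor_exact I hex Ideal.Quotient.mk_surjective _).1 h1
    have hsmul : ∀ y : A ⊗[R] I, i.rTensor I y = g • y := by
      intro y
      induction y using TensorProduct.induction_on with
      | zero => simp
      | tmul c v => rw [LinearMap.rTensor_tmul, TensorProduct.smul_tmul']; rfl
      | add y z hy hz => rw [map_add, smul_add, hy, hz]
    rw [hsmul] at hy
    have h2 : g • (AlgebraTensorModule.rid R A A (v y)) = 0 := by
      rw [← map_smul, ← map_smul, hy, LinearMap.mem_ker.1 hx, map_zero]
    have hy0 : v y = 0 := by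
      apply (AlgebraTensorModule.rid R A A).injective
      rw [map_zero]
      exact (mul_cancel_left_mem_nonZeroDivisors hg).1 (h2.trans (mul_zero g).symm)
    rw [← hy]
    exact Submodule.smul_mem_smul (Ideal.mem_span_singleton_self g) hy0
  have hbot := Submodule.eq_bot_of_le_smul_of_le_jacobson_bot _ _ hK hle (by
    rw [IsLocalRing.jacobson_eq_maximalIdeal ⊥ bot_ne_top, Ideal.span_le, Set.singleton_subset_iff]
    exact hm)
  exact (LinearMap.ker_eq_bot.1 hbot : Function.Injective v)

/-- Flatness of a quotient passes to a flat algebra over it. -/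
theorem flat_quotient_of_flat {B : Type u} [CommRing B] [Algebra R B] [Algebra B A] [IsScalarTower R B A]
    [Module.Flat B A] (b : B) [Module.Flat R (B ⧸ Ideal.span {b})] :
    Module.Flat R (A ⧸ Ideal.span {algebraMap B A b}) := by
  have h1 : Module.Flat R ((B ⧸ Ideal.span {b}) ⊗[B] A) := Module.Flat.trans R (B ⧸ Ideal.span {b}) _
  have h2 : Module.Flat R (A ⊗[B] (B ⧸ Ideal.span {b})) :=
    Module.Flat.of_linearEquiv ((TensorProduct.comm B A (B ⧸ Ideal.span {b})).restrictScalars R)
  have h3 : Module.Flat R (A ⧸ (Ideal.span {b}).map (algebraMap B A)) :=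
    Module.Flat.of_linearEquiv
      (((Algebra.TensorProduct.quotIdealMapEquivTensorQuot A (Ideal.span {b})).toLinearEquiv).restrictScalars R)
  rwa [Ideal.map_span, Set.image_singleton] at h3

end Groth.Agent.FlatCartier
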